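import Groth.Agent.PicPnLib.BaseChange
import Groth.Agent.GenusZeroLib.PSpace
import Groth.Prelude.Def_P1
import Mathlib

/-! Clopen subsets of the relative projective line. -/

set_option autoImplicit false

universe u

open CategoryTheory CategoryTheory.Limits AlgebraicGeometry TopologicalSpace

namespace P1ConnLib

variable {S : Scheme.{u}}

theorem toBase_sect (s : S) : CohB1.ProjSpaceOver.toBase 1 S (P1.sect S 0 s) = s := by
  rw [← Scheme.Hom.comp_apply]
  have : P1.sect S 0 ≫ CohB1.ProjSpaceOver.toBase 1 S = 𝟙 S := pullback.lift_snd _ _ _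
  rw [this]
  rfl

/-- The fibres of the relative line are preconnected. -/
theorem isPreconnected_fibre (n : ℕ) (s : S) :
    _root_.IsPreconnected (CohB1.ProjSpaceOver.toBase n S ⁻¹' {s}) := by
  obtain ⟨j, hj, -⟩ := PicPnLib.exists_square n (S.residueField s) (S.fromSpecResidueField s)
  haveI := GenusZeroLib.irreducibleSpace_projSpace (S.residueField s) n
  have hr : CohB1.ProjSpaceOver.toBase n S ⁻¹' {s} = Set.range j := by
    rw [← Scheme.range_fromSpecResidueField s, ← Scheme.Pullback.range_fst,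
      show j = hj.isoPullback.hom ≫ pullback.fst _ _ from hj.isoPullback_hom_fst.symm,
      Scheme.Hom.comp_base, TopCat.coe_comp, Set.range_comp,
      Set.range_eq_univ.2 hj.isoPullback.hom.surjective, Set.image_univ]
    rfl
  rw [hr]
  have h := (GenusZeroLib.irreducibleSpace_projSpace (S.residueField s : Type u) n).isIrreducible_univ
  have := (h.isConnected.isPreconnected).image j j.continuous.continuousOn
  rwa [Set.image_univ] at this

theorem clopen_eq {V : Set (CohB1.ProjSpaceOver 1 S)} (hV : IsClopen V) :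
    V = CohB1.ProjSpaceOver.toBase 1 S ⁻¹' (P1.sect S 0 ⁻¹' V) := by
  ext z
  let s := CohB1.ProjSpaceOver.toBase 1 S z
  have hsub := (isPreconnected_fibre 1 s).subset_isClopen hV
  have hz : z ∈ CohB1.ProjSpaceOver.toBase 1 S ⁻¹' {s} := rfl
  have hs : P1.sect S 0 s ∈ CohB1.ProjSpaceOver.toBase 1 S ⁻¹' {s} := toBase_sect s
  exact ⟨fun h => hsub ⟨z, hz, h⟩ hs, fun h => hsub ⟨_, hs, h⟩ hz⟩

theorem clopen_eq_empty {V : Set (CohB1.ProjSpaceOver 1 S)} (hV : IsClopen V)
    (h : ∀ s : S, P1.sect S 0 s ∉ V) : V = ∅ := by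
  rw [clopen_eq hV, Set.eq_empty_iff_forall_notMem]
  exact fun z hz => h _ hz

variable {X : Scheme.{u}} (g : X ⟶ CohB1.ProjSpaceOver 1 S) [IsFinite g] [Flat g] [LocallyOfFinitePresentation g]

theorem isClopen_image {W : Set X} (hW : IsClopen W) : IsClopen (g '' W) :=
  ⟨g.isClosedMap _ hW.1, g.isOpenMap _ hW.2⟩

theorem eq_univ_of_sect {W : Set X} (hW : IsClopen W)
    (h0 : ∀ x : X, g x ∈ Set.range (P1.sect S 0) → x ∈ W) : W = Set.univ := by
  have h : g '' Wᶜ = ∅ := clopen_eq_empty (isClopen_image g hW.compl) (fun s ⟨x, hx, hxs⟩ => hx (h0 x ⟨s, hxs.symm⟩))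
  rw [Set.image_eq_empty, Set.compl_empty_iff] at h
  exact h

theorem exists_mem_component [PreconnectedSpace S] (x : X) (p : CohB1.ProjSpaceOver 1 S) :
    ∃ y ∈ connectedComponent x, g y = p := by
  haveI : PreconnectedSpace (CohB1.ProjSpaceOver 1 S) := by
    rw [preconnectedSpace_iff_clopen]
    intro V hV
    rcases isClopen_iff.1 (hV.preimage (P1.sect S 0).continuous) with h | h <;> rw [clopen_eq hV, h] <;> simp
  have hfib : (g ⁻¹' {p}).Finite := g.finite_preimage_singleton p
  have hsurj : ∀ U : Set X, IsClopen U → U.Nonempty → ∃ y ∈ U, g y = p := fun U hU hne => by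
    rcases isClopen_iff.1 (isClopen_image g hU) with h | h
    · exact absurd (Set.image_eq_empty.1 h) hne.ne_empty
    · have : p ∈ g '' U := h ▸ Set.mem_univ p
      exact this
  have hex : ∃ m : ℕ, ∃ U : Set X, IsClopen U ∧ x ∈ U ∧ (U ∩ g ⁻¹' {p}).ncard = m :=
    ⟨_, Set.univ, isClopen_univ, trivial, rfl⟩
  classical
  obtain ⟨U, hU, hxU, hcard⟩ := Nat.find_spec hex
  have hpre : _root_.IsPreconnected U := by
    haveI : PreconnectedSpace U := by
      rw [preconnectedSpace_iff_clopen]
      intro A hA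
      by_contra hne
      push Not at hne
      have hA' : IsClopen (Subtype.val '' A) :=
        ⟨hU.1.isClosedEmbedding_subtypeVal.isClosedMap _ hA.1, hU.2.isOpenMap_subtype_val _ hA.2⟩
      have hB' : IsClopen (Subtype.val '' Aᶜ) :=
        ⟨hU.1.isClosedEmbedding_subtypeVal.isClosedMap _ hA.compl.1, hU.2.isOpenMap_subtype_val _ hA.compl.2⟩
      have hcov : ∀ z ∈ U, z ∈ Subtype.val '' A ∨ z ∈ Subtype.val '' Aᶜ := fun z hz =>
        (Classical.em (⟨z, hz⟩ ∈ A)).imp (fun h => ⟨_, h, rfl⟩) (fun h => ⟨_, h, rfl⟩)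
      have key : ∀ A B : Set X, IsClopen A → A ⊆ U → B ⊆ U → Disjoint A B → IsClopen B → B.Nonempty → x ∈ A → False := by
        intro A B hA hAU hBU hd hB hBne hxA
        obtain ⟨y, hyB, hy⟩ := hsurj B hB hBne
        have hlt : (A ∩ g ⁻¹' {p}).ncard < Nat.find hex := by
          rw [← hcard]
          refine Set.ncard_lt_ncard ⟨Set.inter_subset_inter_left _ hAU, fun hsub => ?_⟩ (hfib.inter_of_right U)
          exact Set.disjoint_left.1 hd (hsub ⟨hBU hyB, hy⟩).1 hyB
        exact Nat.find_min hex hlt ⟨A, hA, hxA, rfl⟩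
      have hd : Disjoint (Subtype.val '' A) (Subtype.val '' Aᶜ) :=
        (Set.disjoint_image_iff Subtype.val_injective).2 disjoint_compl_right
      rcases hcov x hxU with h | h
      · exact key _ _ hA' (Subtype.coe_image_subset _ _) (Subtype.coe_image_subset _ _) hd hB'
          ((Set.nonempty_compl.2 hne.2).image _) h
      · exact key _ _ hB' (Subtype.coe_image_subset _ _) (Subtype.coe_image_subset _ _) hd.symm hA'
          (hne.1.image _) h
    exact isPreconnected_iff_preconnectedSpace.2 this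
  obtain ⟨y, hyU, hy⟩ := hsurj U hU ⟨x, hxU⟩
  exact ⟨y, hpre.subset_connectedComponent hxU hyU, hy⟩

theorem finrank_eq {T : Scheme.{u}} (f : T ⟶ X) [IsFinite f] [Flat f] [LocallyOfFinitePresentation f] (r : ℕ)
    (h : ∀ x : X, g x ∈ Set.range (P1.sect S 0) → f.finrank x = r) (x : X) : f.finrank x = r := by
  have hW : IsClopen (f.finrank ⁻¹' {r}) := f.isLocallyConstant_finrank.isClopen_fiber r
  exact (eq_univ_of_sect g hW h).ge (Set.mem_univ x)

end P1ConnLib
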